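import Mathlib.LinearAlgebra.RootSystem.Defs
import Mathlib.Analysis.InnerProductSpace.PiL2
import Mathlib.Analysis.InnerProductSpace.Projection.Minimal
import Mathlib.Analysis.Convex.Topology
import Mathlib.Algebra.Module.Submodule.Union

/-!
# Convex geometry of a root pairing over `ℤ`
-/

set_option autoImplicit false
set_option linter.unusedSectionVars false

namespace K675.Conv

variable {idx M N : Type*} [Fintype idx] [AddCommGroup M] [AddCommGroup N]
  (P : RootPairing idx ℤ M N)

/-- real valued functions on the roots which are "linear" -/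
def IsV (v : idx → ℝ) : Prop :=
  ∀ a b, v (P.reflectionPerm b a) = v a - (P.pairing a b : ℝ) * v b

variable {P}

lemma IsV.add {v w : idx → ℝ} (hv : IsV P v) (hw : IsV P w) : IsV P (v + w) := fun a b => by
  rw [Pi.add_apply, Pi.add_apply, Pi.add_apply, hv, hw]; ring

lemma IsV.sub {v w : idx → ℝ} (hv : IsV P v) (hw : IsV P w) : IsV P (v - w) := fun a b => by
  rw [Pi.sub_apply, Pi.sub_apply, Pi.sub_apply, hv, hw]; ring

lemma IsV.smul {v : idx → ℝ} (s : ℝ) (hv : IsV P v) : IsV P (s • v) := fun a b => by
  rw [Pi.smul_apply, Pi.smul_apply, Pi.smul_apply, hv, smul_eq_mul, smul_eq_mul, smul_eq_mul]; ring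

lemma IsV.neg {v : idx → ℝ} (hv : IsV P v) (b : idx) : v (P.reflectionPerm b b) = - v b := by
  rw [hv, P.pairing_same]; push_cast; ring

lemma isV_of_hom (f : M →+ ℝ) : IsV P (fun a => f (P.root a)) := fun a b => by
  change f (P.root (P.reflectionPerm b a)) = _
  rw [P.root_reflectionPerm, P.reflection_apply_root, map_sub, map_zsmul, zsmul_eq_mul]

lemma isV_of_hom_int (f : M →+ ℤ) : IsV P (fun a => (f (P.root a) : ℝ)) :=
  isV_of_hom (P := P) ((Int.castAddHom ℝ).comp f)

variable (P) in
lemma pairing_refl (a b c : idx) : P.pairing (P.reflectionPerm b c) a =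
    P.pairing c a - P.pairing c b * P.pairing b a := by
  rw [← P.root_coroot_eq_pairing, P.root_reflectionPerm, P.reflection_apply_root, map_sub, map_smul,
    LinearMap.sub_apply, LinearMap.smul_apply, P.root_coroot_eq_pairing, P.root_coroot_eq_pairing, smul_eq_mul]

variable (P) in
lemma isV_coroot (a : idx) : IsV P (fun b => (P.pairing b a : ℝ)) := fun c b => by
  change ((P.pairing (P.reflectionPerm b c) a : ℤ) : ℝ) = _
  rw [pairing_refl]; push_cast; ring

variable (P) in
/-- `∑_b a^∨(b)²` -/
noncomputable def q (a : idx) : ℝ := ∑ b, (P.pairing b a : ℝ) ^ 2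

lemma q_pos (a : idx) : 0 < q P a := by
  have h1 : (P.pairing a a : ℝ) ^ 2 ≤ q P a :=
    Finset.single_le_sum (f := fun b => (P.pairing b a : ℝ) ^ 2) (fun _ _ => sq_nonneg _) (Finset.mem_univ a)
  rw [P.pairing_same] at h1
  norm_num at h1
  linarith

lemma q_refl (a b : idx) : q P (P.reflectionPerm b a) = q P a := by
  unfold q
  rw [← Equiv.sum_comp (P.reflectionPerm b)]
  refine Finset.sum_congr rfl fun c _ => ?_
  rw [P.pairing_reflectionPerm, P.reflectionPerm_self]

lemma sum_pairing {v : idx → ℝ} (hv : IsV P v) (a : idx) :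
    2 * ∑ b, (P.pairing b a : ℝ) * v b = q P a * v a := by
  have h : ∑ b, (P.pairing b a : ℝ) * v b = ∑ b, -(P.pairing b a : ℝ) * (v b - P.pairing b a * v a) := by
    rw [← Equiv.sum_comp (P.reflectionPerm a)]
    refine Finset.sum_congr rfl fun b _ => ?_
    rw [hv, pairing_refl, P.pairing_same]
    push_cast
    ring
  have h2 : ∑ b, -(P.pairing b a : ℝ) * (v b - P.pairing b a * v a) =
      - ∑ b, (P.pairing b a : ℝ) * v b + q P a * v a := by
    unfold q
    rw [Finset.sum_mul, ← Finset.sum_neg_distrib, ← Finset.sum_add_distrib]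
    refine Finset.sum_congr rfl fun b _ => ?_
    ring
  linarith [h.trans h2]

lemma q_mul_pairing (a c : idx) : q P a * (P.pairing a c : ℝ) = q P c * (P.pairing c a : ℝ) := by
  rw [← sum_pairing (isV_coroot P c) a, ← sum_pairing (isV_coroot P a) c]
  congr 1
  exact Finset.sum_congr rfl fun b _ => mul_comm _ _

lemma pairing_neg_iff (a c : idx) : (P.pairing a c : ℝ) < 0 ↔ (P.pairing c a : ℝ) < 0 := by
  have h := q_mul_pairing (P := P) a c
  have h1 := q_pos (P := P) a
  have h2 := q_pos (P := P) c
  constructor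
  · intro h3
    by_contra h4
    push Not at h4
    have := mul_neg_of_pos_of_neg h1 h3
    have := mul_nonneg h2.le h4
    linarith
  · intro h3
    by_contra h4
    push Not at h4
    have := mul_neg_of_pos_of_neg h2 h3
    have := mul_nonneg h1.le h4
    linarith

open scoped Classical in
/-- weighted sum of the coroots with `0 < y a` -/
noncomputable def G (P : RootPairing idx ℤ M N) (w y : idx → ℝ) (b : idx) : ℝ :=
  ∑ a with 0 < y a, w a * (P.pairing b a : ℝ)

lemma isV_G (w y : idx → ℝ) : IsV P (G P w y) := fun c b => by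
  unfold G
  rw [Finset.mul_sum, ← Finset.sum_sub_distrib]
  refine Finset.sum_congr rfl fun a _ => ?_
  rw [pairing_refl]
  push_cast
  ring

open scoped Classical in
lemma G_zero {w y : idx → ℝ} (hw : ∀ a b, w (P.reflectionPerm b a) = w a) (hy : IsV P y) {b : idx}
    (hb : y b = 0) : G P w y b = 0 := by
  have h : G P w y b = - G P w y b := by
    conv_rhs => unfold G
    unfold G
    rw [Finset.sum_filter, ← Finset.sum_neg_distrib, ← Equiv.sum_comp (P.reflectionPerm b)]
    refine Finset.sum_congr rfl fun a _ => ?_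
    have h1 : y (P.reflectionPerm b a) = y a := by rw [hy, hb]; ring
    rw [h1, hw, P.pairing_reflectionPerm, P.pairing_reflectionPerm_self_left]
    split_ifs
    · push_cast; ring
    · ring
  linarith

open scoped Classical in
lemma G_pos {w y : idx → ℝ} (hw : ∀ a b, w (P.reflectionPerm b a) = w a) (hw0 : ∀ a, 0 < w a)
    (hy : IsV P y) {b : idx} (hb : 0 < y b) : 0 < G P w y b := by
  let A := Finset.univ.filter (fun a => 0 < y a)
  let t : idx → ℝ := fun a => w a * (P.pairing b a : ℝ)
  have ht : ∀ a, t (P.reflectionPerm b a) = - t a := by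
    intro a
    change w _ * (P.pairing b _ : ℝ) = - (w a * _)
    rw [hw, P.pairing_reflectionPerm, P.pairing_reflectionPerm_self_left]
    push_cast
    ring
  let An := A.filter (fun a => t a < 0)
  let Ap := A.filter (fun a => ¬ t a < 0)
  have hG : G P w y b = ∑ a ∈ An, t a + ∑ a ∈ Ap, t a :=
    (Finset.sum_filter_add_sum_filter_not A (fun a => t a < 0) t).symm
  have hmem : ∀ a ∈ An, P.reflectionPerm b a ∈ Ap.erase b := by
    intro a ha
    obtain ⟨ha1, ha2⟩ := Finset.mem_filter.mp ha
    have ha3 : 0 < y a := (Finset.mem_filter.mp ha1).2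
    have h4 : (P.pairing b a : ℝ) < 0 := by
      by_contra h
      push Not at h
      have := mul_nonneg (hw0 a).le h
      exact absurd ha2 (not_lt.mpr this)
    have h5 : (P.pairing a b : ℝ) < 0 := (pairing_neg_iff a b).mpr h4
    have h6 : 0 < y (P.reflectionPerm b a) := by
      rw [hy]
      have := mul_neg_of_neg_of_pos h5 hb
      linarith
    rw [Finset.mem_erase]
    refine ⟨?_, Finset.mem_filter.mpr ⟨Finset.mem_filter.mpr ⟨Finset.mem_univ _, h6⟩, ?_⟩⟩
    · intro h
      have h7 : a = P.reflectionPerm b b := by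
        have := congrArg (P.reflectionPerm b) h
        rwa [P.reflectionPerm_self] at this
      rw [h7, hy.neg] at ha3
      linarith
    · rw [ht]
      push Not
      linarith
  have hsum : ∑ a ∈ An, t a = - ∑ a ∈ An.image (P.reflectionPerm b), t a := by
    rw [Finset.sum_image (fun x _ y _ h => (P.reflectionPerm b).injective h), ← Finset.sum_neg_distrib]
    exact Finset.sum_congr rfl fun a _ => by rw [ht, neg_neg]
  have hsub : An.image (P.reflectionPerm b) ⊆ Ap.erase b := by
    intro c hc
    obtain ⟨a, ha, rfl⟩ := Finset.mem_image.mp hc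
    exact hmem a ha
  have hbAp : b ∈ Ap := by
    refine Finset.mem_filter.mpr ⟨Finset.mem_filter.mpr ⟨Finset.mem_univ _, hb⟩, ?_⟩
    change ¬ (w b * (P.pairing b b : ℝ) < 0)
    rw [P.pairing_same]
    push Not
    have := hw0 b
    push_cast
    linarith
  have h1 : ∑ a ∈ An.image (P.reflectionPerm b), t a ≤ ∑ a ∈ Ap.erase b, t a := by
    refine Finset.sum_le_sum_of_subset_of_nonneg hsub fun a ha _ => ?_
    have := (Finset.mem_filter.mp (Finset.mem_of_mem_erase ha)).2
    exact not_lt.mp this
  have h2 : ∑ a ∈ Ap, t a = t b + ∑ a ∈ Ap.erase b, t a := (Finset.add_sum_erase _ _ hbAp).symm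
  have h3 : 0 < t b := by
    change 0 < w b * (P.pairing b b : ℝ)
    rw [P.pairing_same]
    have := hw0 b
    push_cast
    linarith
  rw [hG, hsum, h2]
  linarith

lemma G_pos_iff {w y : idx → ℝ} (hw : ∀ a b, w (P.reflectionPerm b a) = w a) (hw0 : ∀ a, 0 < w a)
    (hy : IsV P y) (b : idx) : 0 < G P w y b ↔ 0 < y b := by
  constructor
  · intro h
    rcases lt_trichotomy (y b) 0 with h1 | h1 | h1
    · have h2 : 0 < y (P.reflectionPerm b b) := by rw [hy.neg]; linarith
      have h3 := G_pos hw hw0 hy h2
      rw [(isV_G w y).neg] at h3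
      linarith
    · rw [G_zero hw hy h1] at h
      exact absurd h (lt_irrefl _)
    · exact h1
  · exact G_pos hw hw0 hy

lemma G_nonneg_iff {w y : idx → ℝ} (hw : ∀ a b, w (P.reflectionPerm b a) = w a) (hw0 : ∀ a, 0 < w a)
    (hy : IsV P y) (b : idx) : 0 ≤ G P w y b ↔ 0 ≤ y b := by
  have h := G_pos_iff hw hw0 hy (P.reflectionPerm b b)
  rw [(isV_G w y).neg, hy.neg] at h
  constructor
  · intro h1
    by_contra h2
    push Not at h2
    have := h.mpr (by linarith)
    linarith
  · intro h1
    by_contra h2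
    push Not at h2
    have := h.mp (by linarith)
    linarith

open scoped Classical in
/-- the pairing of `G (2/q) y` with `f` -/
lemma sum_G_mul {y f : idx → ℝ} (hf : IsV P f) :
    ∑ b, G P (fun a => 2 / q P a) y b * f b = ∑ a with 0 < y a, f a := by
  unfold G
  simp_rw [Finset.sum_mul]
  rw [Finset.sum_comm]
  refine Finset.sum_congr rfl fun a _ => ?_
  have h1 := sum_pairing hf a
  have h2 := (q_pos (P := P) a).ne'
  have h3 : ∑ b, 2 / q P a * (P.pairing b a : ℝ) * f b = (1 / q P a) * (2 * ∑ b, (P.pairing b a : ℝ) * f b) := by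
    rw [Finset.mul_sum, Finset.mul_sum]
    refine Finset.sum_congr rfl fun b _ => ?_
    ring
  rw [h3, h1]
  field_simp

lemma w_inv (a b : idx) : 2 / q P (P.reflectionPerm b a) = 2 / q P a := by rw [q_refl]

lemma w_pos (a : idx) : 0 < 2 / q P a := div_pos two_pos (q_pos a)

open scoped Classical in
/-- The key decomposition. -/
theorem key (L : Set idx) {f : idx → ℝ} (hf : IsV P f)
    (H : ∀ z : idx → ℝ, IsV P z → (∀ a ∈ L, 0 ≤ z a) → 0 ≤ ∑ a with 0 < z a, f a) :
    ∀ (n : ℕ) (y : idx → ℝ), IsV P y → (∀ a ∈ L, 0 ≤ y a) → (Finset.univ.filter (fun a => 0 < y a)).card ≤ n →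
      ∃ s : ℝ, 0 < s ∧ s * ∑ a with 0 < y a, f a ≤ ∑ a, y a * f a := by
  intro n
  induction n with
  | zero =>
    intro y hy _ hn
    have he : Finset.univ.filter (fun a => 0 < y a) = ∅ := Finset.card_eq_zero.mp (Nat.le_zero.mp hn)
    refine ⟨1, one_pos, ?_⟩
    have h0 : ∀ a, y a ≤ 0 := fun a => by
      by_contra h
      push Not at h
      have : a ∈ Finset.univ.filter (fun a => 0 < y a) := Finset.mem_filter.mpr ⟨Finset.mem_univ _, h⟩
      rw [he] at this
      exact absurd this (Finset.notMem_empty _)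
    have h1 : ∀ a, y a = 0 := fun a => by
      have h2 := h0 (P.reflectionPerm a a)
      rw [hy.neg] at h2
      exact le_antisymm (h0 a) (by linarith)
    rw [he, Finset.sum_empty]
    simp [h1]
  | succ n ih =>
    intro y hy hyL hn
    rcases (Finset.univ.filter (fun a => 0 < y a)).eq_empty_or_nonempty with he | hne
    · exact ih y hy hyL (by rw [he]; simp)
    let g := G P (fun a => 2 / q P a) y
    have hg : IsV P g := isV_G _ _
    have hg1 : ∀ b, 0 < g b ↔ 0 < y b := G_pos_iff w_inv w_pos hy
    have hg2 : ∀ b, 0 ≤ g b ↔ 0 ≤ y b := G_nonneg_iff w_inv w_pos hy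
    obtain ⟨m, hm, hmin⟩ := Finset.exists_min_image _ (fun a => y a / g a) hne
    have hym : 0 < y m := (Finset.mem_filter.mp hm).2
    have hgm : 0 < g m := (hg1 m).mpr hym
    let s := y m / g m
    have hs : 0 < s := div_pos hym hgm
    let y' := y - s • g
    have hy' : IsV P y' := hy.sub (hg.smul s)
    have hy'a : ∀ a, y' a = y a - s * g a := fun a => rfl
    have hpos : ∀ a, 0 < y a → 0 ≤ y' a := by
      intro a ha
      have h1 : y m / g m ≤ y a / g a := hmin a (Finset.mem_filter.mpr ⟨Finset.mem_univ _, ha⟩)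
      have h2 : 0 < g a := (hg1 a).mpr ha
      rw [hy'a, sub_nonneg]
      exact (le_div_iff₀ h2).mp h1
    have hzero : ∀ a, y a = 0 → y' a = 0 := by
      intro a ha
      have h1 : 0 ≤ g a := (hg2 a).mpr ha.ge
      have h2 : ¬ 0 < g a := fun h => by
        have := (hg1 a).mp h
        rw [ha] at this
        exact lt_irrefl _ this
      have h3 : g a = 0 := le_antisymm (not_lt.mp h2) h1
      rw [hy'a, ha, h3]; ring
    have hnn : ∀ a, 0 ≤ y a → 0 ≤ y' a := by
      intro a ha
      rcases ha.eq_or_lt with h | h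
      · exact (hzero a h.symm).ge
      · exact hpos a h
    have hsub : Finset.univ.filter (fun a => 0 < y' a) ⊂ Finset.univ.filter (fun a => 0 < y a) := by
      rw [Finset.ssubset_iff_of_subset]
      · refine ⟨m, hm, fun h => ?_⟩
        have h1 := (Finset.mem_filter.mp h).2
        rw [hy'a] at h1
        have h2 : s * g m = y m := div_mul_cancel₀ _ hgm.ne'
        rw [h2, sub_self] at h1
        exact lt_irrefl _ h1
      · intro a ha
        have h1 := (Finset.mem_filter.mp ha).2
        refine Finset.mem_filter.mpr ⟨Finset.mem_univ _, ?_⟩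
        by_contra h2
        push Not at h2
        have h3 : 0 ≤ y (P.reflectionPerm a a) := by rw [hy.neg]; linarith
        have h4 := hnn _ h3
        rw [hy'.neg] at h4
        linarith
    have hcard : (Finset.univ.filter (fun a => 0 < y' a)).card ≤ n := by
      have := Finset.card_lt_card hsub
      omega
    obtain ⟨s', hs', h5⟩ := ih y' hy' (fun a ha => hnn a (hyL a ha)) hcard
    have h6 := H y' hy' (fun a ha => hnn a (hyL a ha))
    refine ⟨s, hs, ?_⟩
    have h7 : ∑ a, y a * f a = s * ∑ a, g a * f a + ∑ a, y' a * f a := by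
      rw [Finset.mul_sum, ← Finset.sum_add_distrib]
      refine Finset.sum_congr rfl fun a _ => ?_
      rw [hy'a]; ring
    have h8 : ∑ a, g a * f a = ∑ a with 0 < y a, f a := sum_G_mul hf
    rw [h7, h8]
    have := mul_nonneg hs'.le h6
    linarith

end K675.Conv
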