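import Groth.Agent.CanPar.K795.Iface
import Groth.Agent.CanPar.K675.ConvCore

/-!
# The convex geometry lemma of Behrend's theory
-/

set_option autoImplicit false
set_option linter.unusedSectionVars false

namespace K675.Conv

open Groth.Agent.CanPar.K795.Iface

variable {idx M : Type} [Fintype idx] [AddCommGroup M] (P : RootPairing idx ℤ M (Module.Dual ℤ M))

open scoped Classical in
lemma hom_rootSum (f : M →+ ℝ) (x : M →+ ℤ) :
    f (rootSum P x) = ∑ a with (0 : ℝ) < (x (P.root a) : ℝ), f (P.root a) := by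
  unfold rootSum
  rw [map_sum]
  have h0 : ∑ a with x (P.root a) = 0, f (P.root a) = 0 := by
    have h : ∑ a with x (P.root a) = 0, f (P.root a) = - ∑ a with x (P.root a) = 0, f (P.root a) := by
      rw [← Finset.sum_neg_distrib]
      refine Finset.sum_bij (fun a _ => P.reflectionPerm a a) ?_ ?_ ?_ ?_
      · intro a ha
        have h1 := (Finset.mem_filter.mp ha).2
        refine Finset.mem_filter.mpr ⟨Finset.mem_univ _, ?_⟩
        rw [P.root_reflectionPerm, P.reflection_apply_self, map_neg, h1, neg_zero]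
      · intro a _ b _ h
        have h1 := congrArg P.root h
        rw [P.root_reflectionPerm, P.reflection_apply_self, P.root_reflectionPerm, P.reflection_apply_self,
          neg_inj] at h1
        exact P.root.injective h1
      · intro b hb
        have h1 := (Finset.mem_filter.mp hb).2
        refine ⟨P.reflectionPerm b b, ?_, ?_⟩
        · refine Finset.mem_filter.mpr ⟨Finset.mem_univ _, ?_⟩
          rw [P.root_reflectionPerm, P.reflection_apply_self, map_neg, h1, neg_zero]
        · apply P.root.injective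
          rw [P.root_reflectionPerm, P.reflection_apply_self, P.root_reflectionPerm, P.reflection_apply_self,
            neg_neg]
      · intro a _
        rw [P.root_reflectionPerm, P.reflection_apply_self, map_neg, neg_neg]
    linarith
  have h1 : ∑ a with 0 ≤ x (P.root a), f (P.root a) =
      ∑ a with x (P.root a) = 0, f (P.root a) + ∑ a with (0 : ℝ) < (x (P.root a) : ℝ), f (P.root a) := by
    rw [← Finset.sum_union]
    · congr 1
      ext a
      simp only [Finset.mem_filter, Finset.mem_univ, true_and, Finset.mem_union, Int.cast_pos]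
      constructor
      · intro h
        rcases h.eq_or_lt with h | h
        · exact Or.inl h.symm
        · exact Or.inr h
      · rintro (h | h)
        · exact h.ge
        · exact h.le
    · rw [Finset.disjoint_filter]
      intro a _ h1 h2
      rw [h1] at h2
      simp at h2
  rw [h1, h0, zero_add]

variable {P}

open scoped Classical in
/-- the integral coweight with the same signs as `y` -/
noncomputable def xInt (P : RootPairing idx ℤ M (Module.Dual ℤ M)) (y : idx → ℝ) : M →+ ℤ :=
  (∑ a with 0 < y a, P.coroot a : Module.Dual ℤ M).toAddMonoidHom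

lemma xInt_root (hP : P.toLinearMap = Module.Dual.eval ℤ M) (y : idx → ℝ) (b : idx) :
    ((xInt P y (P.root b) : ℤ) : ℝ) = G P (fun _ => 1) y b := by
  unfold xInt G
  change (((∑ a with 0 < y a, P.coroot a : Module.Dual ℤ M) (P.root b) : ℤ) : ℝ) = _
  rw [LinearMap.sum_apply]
  push_cast
  refine Finset.sum_congr rfl fun a _ => ?_
  rw [one_mul, ← P.root_coroot_eq_pairing, hP]
  rfl

lemma xInt_pos_iff (hP : P.toLinearMap = Module.Dual.eval ℤ M) {y : idx → ℝ} (hy : IsV P y) (b : idx) :
    0 < xInt P y (P.root b) ↔ 0 < y b := by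
  rw [← G_pos_iff (w := fun _ => 1) (fun _ _ => rfl) (fun _ => one_pos) hy b, ← xInt_root hP, Int.cast_pos]

lemma xInt_nonneg_iff (hP : P.toLinearMap = Module.Dual.eval ℤ M) {y : idx → ℝ} (hy : IsV P y) (b : idx) :
    0 ≤ xInt P y (P.root b) ↔ 0 ≤ y b := by
  rw [← G_nonneg_iff (w := fun _ => 1) (fun _ _ => rfl) (fun _ => one_pos) hy b, ← xInt_root hP, Int.cast_nonneg_iff]

/-- regular coweights exist -/
lemma exists_regular (hP : P.toLinearMap = Module.Dual.eval ℤ M) : ∃ r : M →+ ℤ, ∀ a, r (P.root a) ≠ 0 := by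
  classical
  let f : idx → Module.Dual ℚ (idx → ℚ) := fun b =>
    ∑ a, (P.pairing b a : ℚ) • LinearMap.proj a
  have hf : ∀ b t, f b t = ∑ a, (P.pairing b a : ℚ) * t a := by
    intro b t
    simp only [f, LinearMap.sum_apply, LinearMap.smul_apply, LinearMap.proj_apply, smul_eq_mul]
  obtain ⟨t, ht⟩ := Module.Dual.exists_forall_ne_zero_of_forall_exists f (fun b => ⟨Pi.single b 1, by
    rw [hf]
    simp only [Pi.single_apply, mul_ite, mul_one, mul_zero, Finset.sum_ite_eq', Finset.mem_univ, if_true]
    rw [P.pairing_same]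
    norm_num⟩)
  obtain ⟨⟨N, hN⟩, hNt⟩ := IsLocalization.exist_integer_multiples_of_finite (nonZeroDivisors ℤ) t
  choose s hs using hNt
  have hN0 : N ≠ 0 := nonZeroDivisors.ne_zero hN
  refine ⟨(∑ a, s a • P.coroot a : Module.Dual ℤ M).toAddMonoidHom, fun b h => ht b ?_⟩
  change (∑ a, s a • P.coroot a : Module.Dual ℤ M) (P.root b) = 0 at h
  rw [LinearMap.sum_apply] at h
  have h1 : ∑ a, s a * P.pairing b a = 0 := by
    rw [← h]
    refine Finset.sum_congr rfl fun a _ => ?_
    rw [LinearMap.smul_apply, smul_eq_mul, ← P.root_coroot_eq_pairing, hP]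
    rfl
  have h2 : ∑ a, (s a : ℚ) * (P.pairing b a : ℚ) = 0 := by exact_mod_cast h1
  rw [hf]
  have h3 : (N : ℚ) * ∑ a, (P.pairing b a : ℚ) * t a = 0 := by
    rw [← h2, Finset.mul_sum]
    refine Finset.sum_congr rfl fun a _ => ?_
    have h4 : (s a : ℚ) = N * t a := by
      have := hs a
      simpa using this
    rw [h4]; ring
  rcases mul_eq_zero.mp h3 with h5 | h5
  · exact absurd (by exact_mod_cast h5) hN0
  · exact h5

/-- a regular coweight in a chamber whose closure contains `y` -/
lemma exists_adapted (hP : P.toLinearMap = Module.Dual.eval ℤ M) {y : idx → ℝ} (hy : IsV P y) :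
    ∃ l : M →+ ℤ, (∀ a, l (P.root a) ≠ 0) ∧ ∀ a, 0 < l (P.root a) → 0 ≤ y a := by
  obtain ⟨r, hr⟩ := exists_regular hP
  -- a bound for `r` on the roots
  let B : ℤ := 1 + ∑ a, |r (P.root a)|
  have hB : ∀ a, |r (P.root a)| < B := fun a => by
    have : |r (P.root a)| ≤ ∑ a, |r (P.root a)| :=
      Finset.single_le_sum (f := fun a => |r (P.root a)|) (fun _ _ => abs_nonneg _) (Finset.mem_univ a)
    linarith
  have hl : ∀ a, (B • xInt P y + r) (P.root a) = B * xInt P y (P.root a) + r (P.root a) := fun a => by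
    rw [AddMonoidHom.add_apply, AddMonoidHom.smul_apply, smul_eq_mul]
  have hpos : ∀ a, 0 < y a → 0 < (B • xInt P y + r) (P.root a) := by
    intro a ha
    have h1 : 1 ≤ xInt P y (P.root a) := (xInt_pos_iff hP hy a).mpr ha
    have h2 := abs_lt.mp (hB a)
    rw [hl]
    have h3 : 0 < B := lt_of_le_of_lt (abs_nonneg _) (hB a)
    nlinarith [h2.1]
  have hneg : ∀ a, y a < 0 → (B • xInt P y + r) (P.root a) < 0 := by
    intro a ha
    have h1 : 0 < y (P.reflectionPerm a a) := by rw [hy.neg]; linarith
    have h2 := hpos _ h1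
    rw [P.root_reflectionPerm, P.reflection_apply_self, map_neg] at h2
    linarith
  refine ⟨B • xInt P y + r, fun a => ?_, fun a ha => ?_⟩
  · rcases lt_trichotomy (y a) 0 with h | h | h
    · exact (hneg a h).ne
    · have h1 : xInt P y (P.root a) = 0 := by
        have h2 := (xInt_nonneg_iff hP hy a).mpr h.ge
        have h3 : ¬ 0 < xInt P y (P.root a) := fun h4 => by
          have := (xInt_pos_iff hP hy a).mp h4
          rw [h] at this
          exact lt_irrefl _ this
        exact le_antisymm (not_lt.mp h3) h2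
      rw [hl, h1, mul_zero, zero_add]
      exact hr a
    · exact (hpos a h).ne'
  · by_contra h
    push Not at h
    have := hneg a h
    linarith

open scoped Classical in
/-- **Convex geometry** of Behrend's theory (statement of `K795.Iface.Conv`). -/
theorem conv : Conv := by
  intro idx M _ _ _ _ P _ hP D hD
  let chamb : (M →+ ℤ) → Set idx := fun l => {a | 0 < l (P.root a)}
  let Ix := {A : Set idx // ∃ l : M →+ ℤ, (∀ a, l (P.root a) ≠ 0) ∧ chamb l = A}
  have hfin : Finite Ix := Subtype.finite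
  choose L hL using fun A : Ix => A.2
  choose d hd using fun A : Ix => hD (L A) (hL A).1
  let v : Ix → EuclideanSpace ℝ idx := fun A => WithLp.toLp 2 (fun a => d A (P.root a))
  let K : Set (EuclideanSpace ℝ idx) := convexHull ℝ (Set.range v)
  have hKv : Convex ℝ K := convex_convexHull ℝ _
  have hKc : IsCompact K := (Set.finite_range v).isCompact_convexHull ℝ
  obtain ⟨r, hr⟩ := exists_regular hP
  have hKne : K.Nonempty := ⟨v ⟨chamb r, r, hr, rfl⟩, subset_convexHull ℝ _ ⟨_, rfl⟩⟩
  obtain ⟨c, hcK, hc⟩ := exists_norm_eq_iInf_of_complete_convex hKne hKc.isComplete hKv 0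
  rw [norm_eq_iInf_iff_real_inner_le_zero hKv hcK] at hc
  -- linear conditions satisfied by `c`
  have hcV : IsV P (c : idx → ℝ) := by
    intro a b
    have hconv : Convex ℝ {w : EuclideanSpace ℝ idx | w (P.reflectionPerm b a) = w a - (P.pairing a b : ℝ) * w b} := by
      intro x hx y hy s t _ _ _
      simp only [Set.mem_ofPred_eq, PiLp.add_apply, PiLp.smul_apply, smul_eq_mul] at hx hy ⊢
      rw [hx, hy]; ring
    refine convexHull_min ?_ hconv hcK
    rintro _ ⟨A, rfl⟩
    exact isV_of_hom (P := P) (d A) a b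
  have hcD : ∀ x : M →+ ℤ, D x ≤ ∑ a with (0 : ℝ) < (x (P.root a) : ℝ), c a := by
    intro x
    have hconv : Convex ℝ {w : EuclideanSpace ℝ idx | D x ≤ ∑ a with (0 : ℝ) < (x (P.root a) : ℝ), w a} := by
      intro w hw w' hw' s t hs ht hst
      simp only [Set.mem_ofPred_eq, PiLp.add_apply, PiLp.smul_apply, smul_eq_mul] at hw hw' ⊢
      rw [Finset.sum_add_distrib, ← Finset.mul_sum, ← Finset.mul_sum]
      have h1 := mul_le_mul_of_nonneg_left hw hs
      have h2 := mul_le_mul_of_nonneg_left hw' ht
      have h3 : D x = s * D x + t * D x := by rw [← add_mul, hst, one_mul]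
      linarith
    refine convexHull_min ?_ hconv hcK
    rintro _ ⟨A, rfl⟩
    change D x ≤ ∑ a with (0 : ℝ) < (x (P.root a) : ℝ), d A (P.root a)
    rw [← hom_rootSum]
    exact (hd A x).1
  -- an adapted chamber
  obtain ⟨l, hl1, hl2⟩ := exists_adapted hP hcV
  let A : Ix := ⟨chamb l, l, hl1, rfl⟩
  have hA : ∀ a, 0 < L A (P.root a) ↔ 0 < l (P.root a) := fun a => by
    have := (hL A).2
    exact Set.ext_iff.mp this a
  let f : idx → ℝ := (c : idx → ℝ) - fun a => d A (P.root a)
  have hf : IsV P f := hcV.sub (isV_of_hom (d A))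
  have hfa : ∀ a, f a = c a - d A (P.root a) := fun a => rfl
  have hsign : ∀ {z : idx → ℝ}, IsV P z → ∀ g : idx → ℝ,
      ∑ a with (0 : ℝ) < (xInt P z (P.root a) : ℝ), g a = ∑ a with 0 < z a, g a := by
    intro z hz g
    refine Finset.sum_congr ?_ fun _ _ => rfl
    ext a
    simp only [Finset.mem_filter, Finset.mem_univ, true_and, Int.cast_pos]
    exact xInt_pos_iff hP hz a
  have H : ∀ z : idx → ℝ, IsV P z → (∀ a ∈ chamb l, 0 ≤ z a) → 0 ≤ ∑ a with 0 < z a, f a := by
    intro z hz hzl
    have h1 := hcD (xInt P z)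
    have h2 : D (xInt P z) = d A (rootSum P (xInt P z)) :=
      (hd A (xInt P z)).2 fun a ha => (xInt_nonneg_iff hP hz a).mpr (hzl a ((hA a).mp ha))
    rw [hom_rootSum, hsign hz] at h2
    rw [hsign hz] at h1
    have h3 : ∑ a with 0 < z a, f a = ∑ a with 0 < z a, c a - ∑ a with 0 < z a, d A (P.root a) := by
      rw [← Finset.sum_sub_distrib]
      exact Finset.sum_congr rfl fun a _ => rfl
    rw [h3]
    linarith
  obtain ⟨s, hs, hs2⟩ := key (chamb l) hf H _ (c : idx → ℝ) hcV (fun a ha => hl2 a ha) le_rfl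
  have hinner : ∑ a, c a * f a ≤ 0 := by
    have h1 := hc (v A) (subset_convexHull ℝ _ ⟨A, rfl⟩)
    rw [PiLp.inner_apply] at h1
    refine le_trans (le_of_eq ?_) h1
    refine Finset.sum_congr rfl fun a _ => ?_
    simp only [PiLp.sub_apply, PiLp.zero_apply, RCLike.inner_apply, conj_trivial]
    change c a * (c a - d A (P.root a)) = (d A (P.root a) - c a) * (0 - c a)
    ring
  have hle : ∑ a with 0 < c a, c a ≤ D (xInt P c) := by
    have h2 : D (xInt P c) = d A (rootSum P (xInt P c)) :=
      (hd A (xInt P c)).2 fun a ha => (xInt_nonneg_iff hP hcV a).mpr (hl2 a ((hA a).mp ha))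
    rw [hom_rootSum, hsign hcV] at h2
    have h3 : ∑ a with 0 < c a, f a = ∑ a with 0 < c a, c a - ∑ a with 0 < c a, d A (P.root a) := by
      rw [← Finset.sum_sub_distrib]
      exact Finset.sum_congr rfl fun a _ => rfl
    have h4 : s * ∑ a with 0 < c a, f a ≤ 0 := hs2.trans hinner
    have h5 : ∑ a with 0 < c a, f a ≤ 0 := by
      by_contra h
      push Not at h
      have := mul_pos hs h
      linarith
    linarith
  have hsub : ∀ x : M →+ ℤ, ∑ a with (0 : ℝ) < (x (P.root a) : ℝ), c a ≤
      ∑ a with (0 : ℝ) < (x (P.root a) : ℝ) ∧ 0 < c a, c a := by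
    intro x
    rw [← Finset.filter_filter, ← Finset.sum_filter_add_sum_filter_not _ (fun a => 0 < c a)]
    have : ∑ a ∈ Finset.univ.filter (fun a => (0 : ℝ) < (x (P.root a) : ℝ)) with ¬ 0 < c a, c a ≤ 0 :=
      Finset.sum_nonpos fun a ha => not_lt.mp (Finset.mem_filter.mp ha).2
    linarith
  refine ⟨xInt P c, fun x => ?_⟩
  have hss : Finset.univ.filter (fun a => (0 : ℝ) < (x (P.root a) : ℝ) ∧ 0 < c a) ⊆
      Finset.univ.filter (fun a => 0 < c a) := fun a ha =>
    Finset.mem_filter.mpr ⟨Finset.mem_univ _, (Finset.mem_filter.mp ha).2.2⟩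
  have h2 : ∑ a with (0 : ℝ) < (x (P.root a) : ℝ) ∧ 0 < c a, c a ≤ ∑ a with 0 < c a, c a :=
    Finset.sum_le_sum_of_subset_of_nonneg hss fun a ha _ => (Finset.mem_filter.mp ha).2.le
  refine ⟨(hcD x).trans ((hsub x).trans (h2.trans hle)), fun heq a ha => ?_⟩
  rw [xInt_nonneg_iff hP hcV]
  by_contra hneg
  push Not at hneg
  have hpos : 0 < c (P.reflectionPerm a a) := by rw [hcV.neg]; linarith
  have hx : ¬ (0 : ℝ) < (x (P.root (P.reflectionPerm a a)) : ℝ) := by
    rw [P.root_reflectionPerm, P.reflection_apply_self, map_neg, Int.cast_neg]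
    have : (0 : ℝ) ≤ (x (P.root a) : ℝ) := by exact_mod_cast ha
    linarith
  have h3 : ∑ a with (0 : ℝ) < (x (P.root a) : ℝ) ∧ 0 < c a, c a < ∑ a with 0 < c a, c a :=
    Finset.sum_lt_sum_of_subset hss (i := P.reflectionPerm a a)
      (Finset.mem_filter.mpr ⟨Finset.mem_univ _, hpos⟩)
      (fun h => hx (Finset.mem_filter.mp h).2.1) hpos
      fun a ha _ => (Finset.mem_filter.mp ha).2.le
  have h4 := (hcD x).trans (hsub x)
  linarith

end K675.Conv
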